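import Cfsg.Agent.Lib.Blk83.Weight
import Cfsg.Agent.Lib.BlockReg.Basic
import Cfsg.Agent.Lib.Char.Complete
import Cfsg.Agent.Lib.Char.Virtual
import Cfsg.Agent.Lib.Char.Twist
import Cfsg.Agent.Lib.Char.CentralOver
import Cfsg.Agent.Lib.CharTools.Basic

/-!
# Elementary consequences of column orthogonality for degree data
-/

set_option autoImplicit false
set_option linter.unusedSectionVars false
set_option linter.style.haveILetI false

open Cfsg CfsgLib.BlockReg

namespace CfsgLib.DegMultiset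

universe u v

variable {G : Type u} [Group G] [Finite G]

/-- An irreducible character whose degree has a cofactor prime to `r` vanishes on elements of
order divisible by `r`. -/
theorem vanish_of_cofactor {r k : ℕ} (hr : r.Prime) (χ : IrrCharacter G)
    (hcard : Nat.card G = charDegree (χ : G → ℂ) * k) (hk : ¬ r ∣ k) {g : G}
    (hg : r ∣ orderOf g) : (χ : G → ℂ) g = 0 := by
  refine CfsgLib.Blk83.vanish_of_defect_zero hr χ.2 ?_ hg
  rw [hcard, Nat.factorization_mul (deg_pos χ).ne' (by rintro rfl; exact hk (dvd_zero r)),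
    Finsupp.add_apply, Nat.factorization_eq_zero_of_not_dvd hk, add_zero]

/-- At a nonidentity element some nonprincipal character with degree prime to a given `m > 1`
does not vanish. -/
theorem exists_ne_zero_not_dvd {g : G} (hg : g ≠ 1) {m : ℕ} (hm : 1 < m) :
    ∃ χ : IrrCharacter G, χ ≠ CfsgLib.Char.principalIrr ∧ (χ : G → ℂ) g ≠ 0 ∧
      ¬ m ∣ charDegree (χ : G → ℂ) := by
  classical
  haveI := Fintype.ofFinite G
  by_contra hcon
  push Not at hcon
  have h := CfsgLib.Char.sum_apply_one_mul g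
  rw [if_neg hg, ← Finset.add_sum_erase _ _ (Finset.mem_univ (CfsgLib.Char.principalIrr (G := G))),
    CfsgLib.Char.principalIrr_apply, CfsgLib.Char.principalIrr_apply, one_mul] at h
  set s : Finset (IrrCharacter G) := (Finset.univ : Finset _).erase CfsgLib.Char.principalIrr with hs
  set c : ℂ := ∑ χ ∈ s, ((charDegree (χ : G → ℂ) / m : ℕ) : ℂ) * (χ : G → ℂ) g with hc
  have hint : IsIntegral ℤ c := by
    refine IsIntegral.sum _ fun χ _ => (IsIntegral.mul ?_ ?_)
    · generalize charDegree (χ : G → ℂ) / m = t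
      simpa using isIntegral_algebraMap (R := ℤ) (A := ℂ) (x := (t : ℤ))
    · obtain ⟨n, ρ, hρ, he⟩ := χ.2
      rw [← he]
      exact CfsgLib.Char.isIntegral_character ρ g
  have hterm : ∀ χ ∈ s, (χ : G → ℂ) 1 * (χ : G → ℂ) g =
      (m : ℂ) * (((charDegree (χ : G → ℂ) / m : ℕ) : ℂ) * (χ : G → ℂ) g) := by
    intro χ hχ
    by_cases h0 : (χ : G → ℂ) g = 0
    · simp [h0]
    obtain ⟨k, hk⟩ := hcon χ (Finset.ne_of_mem_erase hχ) h0
    rw [← deg_cast χ, hk, Nat.mul_div_cancel_left _ (by omega : 0 < m)]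
    push_cast
    ring
  rw [Finset.sum_congr rfl hterm, ← Finset.mul_sum, ← hc] at h
  have hmC : (m : ℂ) ≠ 0 := Nat.cast_ne_zero.mpr (by omega)
  have hone : ((1 : ℕ) : ℂ) / (m : ℂ) = -c := by
    rw [div_eq_iff hmC, Nat.cast_one]
    linear_combination h
  have h2 := CfsgLib.Char.dvd_of_isIntegral_natCast_div (n := 1) (by omega : m ≠ 0)
    (hone ▸ hint.neg)
  have := Nat.le_of_dvd one_pos h2
  omega

/-- A nonprincipal character inflated from a nontrivial quotient: its degree divides the index,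
its square is smaller than the index, and it is linear when the quotient is commutative. -/
theorem exists_inflated (N : Subgroup G) [N.Normal] (hN : N ≠ ⊤) :
    ∃ χ : IrrCharacter G, χ ≠ CfsgLib.Char.principalIrr ∧ charDegree (χ : G → ℂ) ∣ N.index ∧
      charDegree (χ : G → ℂ) ^ 2 < N.index ∧
      ((∀ a b : G ⧸ N, a * b = b * a) → charDegree (χ : G → ℂ) = 1) := by
  classical
  haveI := Fintype.ofFinite (G ⧸ N)
  have hcard : Nat.card (G ⧸ N) = N.index := rfl
  have hidx : 1 < N.index := by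
    have h1 : N.index ≠ 1 := fun e => hN (Subgroup.index_eq_one.1 e)
    have h2 : N.index ≠ 0 := Subgroup.index_ne_zero_of_finite
    omega
  have hsum := CfsgLib.CharTools.sum_degree_sq' (G := G ⧸ N)
  rw [hcard, ← Finset.add_sum_erase _ _
    (Finset.mem_univ (CfsgLib.Char.principalIrr (G := G ⧸ N)))] at hsum
  have hp : charDegree ((CfsgLib.Char.principalIrr (G := G ⧸ N)) : G ⧸ N → ℂ) = 1 :=
    CfsgLib.CharTools.charDegree_principal
  rw [hp, one_pow] at hsum
  obtain ⟨η, hη⟩ : ((Finset.univ : Finset (IrrCharacter (G ⧸ N))).erase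
      CfsgLib.Char.principalIrr).Nonempty := by
    by_contra he
    rw [Finset.not_nonempty_iff_eq_empty.1 he, Finset.sum_empty] at hsum
    omega
  let χ : IrrCharacter G := ⟨(η : G ⧸ N → ℂ) ∘ QuotientGroup.mk' N,
    CfsgLib.CharTwist.isIrrCharacter_comp η.2 _ (QuotientGroup.mk'_surjective N)⟩
  have hd : charDegree (χ : G → ℂ) = charDegree (η : G ⧸ N → ℂ) := by
    simp [χ, charDegree]
  refine ⟨χ, fun e => Finset.ne_of_mem_erase hη (Subtype.ext (funext fun x => ?_)),
    hd ▸ hcard ▸ deg_dvd_card η, ?_, fun hab => ?_⟩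
  · obtain ⟨g, rfl⟩ := QuotientGroup.mk'_surjective N x
    exact congrFun (congrArg Subtype.val e) g
  · rw [hd, ← hsum, Nat.lt_one_add_iff]
    exact Finset.single_le_sum (f := fun ψ : IrrCharacter (G ⧸ N) => charDegree (ψ : G ⧸ N → ℂ) ^ 2)
      (fun _ _ => Nat.zero_le _) hη
  · have h1 := (CfsgLib.CharOver.abelian_irr hab η.2).1
    rw [← deg_cast η] at h1
    rw [hd]
    exact_mod_cast h1

/-- Equal degree multisets give equal orders. -/
theorem card_eq_of_counts {H : Type v} [Group H] [Finite H]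
    (h : ∀ d : ℕ, Nat.card {χ : IrrCharacter G // (χ : G → ℂ) 1 = (d : ℂ)} =
      Nat.card {χ : IrrCharacter H // (χ : H → ℂ) 1 = (d : ℂ)}) :
    Nat.card G = Nat.card H ∧
    ∀ χ : IrrCharacter G, ∃ ψ : IrrCharacter H,
      charDegree (ψ : H → ℂ) = charDegree (χ : G → ℂ) := by
  classical
  have key : ∀ d : ℕ, Nat.card {χ : IrrCharacter G // charDegree (χ : G → ℂ) = d} =
      Nat.card {χ : IrrCharacter H // charDegree (χ : H → ℂ) = d} := by
    intro d
    have e1 : ∀ χ : IrrCharacter G, charDegree (χ : G → ℂ) = d ↔ (χ : G → ℂ) 1 = (d : ℂ) := fun χ => by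
      rw [← deg_cast χ, Nat.cast_inj]
    have e2 : ∀ χ : IrrCharacter H, charDegree (χ : H → ℂ) = d ↔ (χ : H → ℂ) 1 = (d : ℂ) := fun χ => by
      rw [← deg_cast χ, Nat.cast_inj]
    rw [Nat.card_congr (Equiv.subtypeEquivRight e1), Nat.card_congr (Equiv.subtypeEquivRight e2)]
    exact h d
  haveI : Finite (IrrCharacter G) := inferInstance
  haveI : Finite (IrrCharacter H) := inferInstance
  let e : IrrCharacter G ≃ IrrCharacter H :=
    Equiv.ofFiberEquiv (f := fun χ : IrrCharacter G => charDegree (χ : G → ℂ))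
      (g := fun χ : IrrCharacter H => charDegree (χ : H → ℂ))
      (fun d => (Finite.card_eq.1 (key d)).some)
  have he : ∀ χ, charDegree ((e χ : IrrCharacter H) : H → ℂ) = charDegree (χ : G → ℂ) := fun χ =>
    Equiv.ofFiberEquiv_map (f := fun χ : IrrCharacter G => charDegree (χ : G → ℂ))
      (g := fun χ : IrrCharacter H => charDegree (χ : H → ℂ)) _ χ
  refine ⟨?_, fun χ => ⟨e χ, he χ⟩⟩
  rw [← CfsgLib.CharTools.sum_degree_sq' (G := G), ← CfsgLib.CharTools.sum_degree_sq' (G := H)]
  exact Fintype.sum_equiv e _ _ fun χ => by rw [he χ]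

end CfsgLib.DegMultiset
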