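import Cfsg.Agent.Lib.DegMultiset.Basic
import Cfsg.Agent.Lib.PSL2Spec.Sylow

/-!
# A group with the degree data of `PSL₂(q)`, `q = p² ≡ 1 (mod 4)`: the Sylow `p`-subgroups
-/

set_option autoImplicit false
set_option linter.unusedSectionVars false
set_option linter.style.haveILetI false

open Cfsg CfsgLib.BlockReg

namespace CfsgLib.DegMultiset

universe u

/-- The degree data, with `q = p ^ 2 = 2 a + 1`. -/
structure Data (G : Type u) [Group G] (p a : ℕ) : Prop where
  prime : p.Prime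
  q_eq : p ^ 2 = 2 * a + 1
  even : 2 ∣ a
  four_le : 4 ≤ a
  card : Nat.card G = 2 * (2 * a + 1) * a * (a + 1)
  degrees : ∀ χ : IrrCharacter G, charDegree (χ : G → ℂ) = 1 ∨
    charDegree (χ : G → ℂ) = 2 * a + 1 ∨ charDegree (χ : G → ℂ) = a + 1 ∨
    charDegree (χ : G → ℂ) = 2 * a + 2 ∨ charDegree (χ : G → ℂ) = 2 * a
  linear : ∀ χ : IrrCharacter G, charDegree (χ : G → ℂ) = 1 → χ = CfsgLib.Char.principalIrr

variable {G : Type u} [Group G] [Finite G] {p a : ℕ}

namespace Data

variable (h : Data G p a)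
include h

theorem p_dvd_q : p ∣ 2 * a + 1 := h.q_eq ▸ dvd_pow_self p two_ne_zero

theorem p_not_dvd : ¬ p ∣ 2 * a * (a + 1) := by
  intro hd
  have h1 : p ∣ 4 * (a * (a + 1)) + 1 := by
    rw [show 4 * (a * (a + 1)) + 1 = (2 * a + 1) ^ 2 by ring]
    exact dvd_pow h.p_dvd_q two_ne_zero
  have h2 : p ∣ 4 * (a * (a + 1)) := hd.trans ⟨2, by ring⟩
  exact h.prime.one_lt.ne' (Nat.dvd_one.mp ((Nat.dvd_add_right h2).mp h1))

omit h in
theorem coprime_succ_q : Nat.Coprime (a + 1) (2 * a + 1) := by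
  refine Nat.coprime_of_dvd fun k hk h1 h2 => ?_
  have : k ∣ 1 := by
    have h3 : k ∣ 2 * (a + 1) := h1.trans (dvd_mul_left _ _)
    rw [show 2 * (a + 1) = (2 * a + 1) + 1 by ring] at h3
    exact (Nat.dvd_add_right h2).mp h3
  exact hk.one_lt.ne' (Nat.dvd_one.mp this)

theorem coprime_succ_two : Nat.Coprime (a + 1) 2 := by
  obtain ⟨k, hk⟩ := h.even
  rw [Nat.coprime_comm, Nat.prime_two.coprime_iff_not_dvd]
  omega

/-- Elements commuting with a nontrivial `p`-element are `p`-elements. -/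
theorem isPGroup_centralizer {x : G} (hx : x ≠ 1) (hxp : ∃ k, orderOf x = p ^ k) :
    IsPGroup p (Subgroup.centralizer ({x} : Set G)) := by
  haveI := Fact.mk h.prime
  rw [IsPGroup.iff_card]
  obtain ⟨k, hk⟩ := hxp
  have hpx : p ∣ orderOf x := by
    rw [hk]
    refine dvd_pow_self p fun h0 => hx (orderOf_eq_one_iff.mp (by rw [hk, h0, pow_zero]))
  refine ⟨_, Nat.eq_prime_pow_of_unique_prime_dvd Nat.card_pos.ne' fun {r} hr hrC => ?_⟩
  by_contra hrp
  haveI := Fact.mk hr
  obtain ⟨y, hy⟩ := exists_prime_orderOf_dvd_card' (G := Subgroup.centralizer ({x} : Set G)) r hrC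
  rw [← Subgroup.orderOf_coe] at hy
  obtain ⟨g, -, hg⟩ := (show Commute x (y : G) from
    (Subgroup.mem_centralizer_singleton_iff.mp y.2).symm).exists_orderOf_eq_lcm
  have hgp : p ∣ orderOf g := hg ▸ hpx.trans (Nat.dvd_lcm_left _ _)
  have hgr : r ∣ orderOf g := hg ▸ hy ▸ Nat.dvd_lcm_right _ _
  have hg1 : g ≠ 1 := fun e => h.prime.one_lt.ne' (Nat.dvd_one.mp (by simpa [e] using hgp))
  have hrG : r ∣ 2 * (2 * a + 1) * a * (a + 1) :=
    h.card ▸ hgr.trans (orderOf_dvd_natCard g)
  have hcases : r ∣ 2 * a ∨ r ∣ a + 1 := by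
    rcases (hr.dvd_mul).mp hrG with h1 | h1
    · rcases (hr.dvd_mul).mp h1 with h2 | h2
      · rcases (hr.dvd_mul).mp h2 with h3 | h3
        · exact Or.inl (h3.trans (dvd_mul_right _ _))
        · exact absurd ((Nat.prime_dvd_prime_iff_eq hr h.prime).mp
            (hr.dvd_of_dvd_pow (h.q_eq ▸ h3))) hrp
      · exact Or.inl (h2.trans (dvd_mul_left _ _))
    · exact Or.inr h1
  have hq : ∀ χ : IrrCharacter G, charDegree (χ : G → ℂ) = 2 * a + 1 → (χ : G → ℂ) g = 0 :=
    fun χ hd => vanish_of_cofactor h.prime χ (k := 2 * a * (a + 1)) (by rw [h.card, hd]; ring)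
      h.p_not_dvd hgp
  rcases hcases with hr2 | hr1
  · have hrn : ¬ r ∣ (2 * a + 1) * (a + 1) := by
      intro hd
      have ha1 : Nat.Coprime (2 * a) (a + 1) :=
        Nat.Coprime.mul_left h.coprime_succ_two.symm
          (Nat.coprime_self_add_right.mpr (Nat.coprime_one_right a))
      rcases (hr.dvd_mul).mp hd with h1 | h1
      · exact hr.one_lt.ne' (Nat.dvd_one.mp ((Nat.dvd_add_right hr2).mp h1))
      · exact hr.one_lt.ne' (Nat.eq_one_of_dvd_coprimes ha1 hr2 h1)
    obtain ⟨χ, hne, h0, hnd⟩ := exists_ne_zero_not_dvd hg1 (show 1 < a + 1 by have := h.four_le; omega)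
    rcases h.degrees χ with e | e | e | e | e
    · exact hne (h.linear χ e)
    · exact h0 (hq χ e)
    · exact hnd (by rw [e])
    · exact hnd ⟨2, by rw [e]; ring⟩
    · exact h0 (vanish_of_cofactor hr χ (k := (2 * a + 1) * (a + 1)) (by rw [h.card, e]; ring) hrn hgr)
  · have hne2 : ∀ m, Nat.Coprime (a + 1) m → ¬ r ∣ m := fun m hm hd =>
      hr.one_lt.ne' (Nat.eq_one_of_dvd_coprimes hm hr1 hd)
    have ha' : Nat.Coprime (a + 1) a := (Nat.coprime_self_add_right.mpr (Nat.coprime_one_right a)).symm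
    have hrn : ¬ r ∣ (2 * a + 1) * a :=
      hne2 _ (Nat.Coprime.mul_right coprime_succ_q ha')
    have hrn' : ¬ r ∣ 2 * (2 * a + 1) * a := by
      rw [mul_assoc]
      exact hne2 _ (Nat.Coprime.mul_right h.coprime_succ_two (Nat.Coprime.mul_right coprime_succ_q ha'))
    obtain ⟨χ, hne, h0, hnd⟩ := exists_ne_zero_not_dvd hg1 (show 1 < 2 * a by have := h.four_le; omega)
    rcases h.degrees χ with e | e | e | e | e
    · exact hne (h.linear χ e)
    · exact h0 (hq χ e)
    · exact h0 (vanish_of_cofactor hr χ (k := 2 * (2 * a + 1) * a) (by rw [h.card, e]; ring) hrn' hgr)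
    · exact h0 (vanish_of_cofactor hr χ (k := (2 * a + 1) * a) (by rw [h.card, e]; ring) hrn hgr)
    · exact hnd (by rw [e])

theorem card_sylow [Fact p.Prime] (P : Sylow p G) : Nat.card P = 2 * a + 1 := by
  rw [Sylow.card_eq_multiplicity, ← h.q_eq]
  congr 1
  rw [h.card, show 2 * (2 * a + 1) * a * (a + 1) = p ^ 2 * (2 * a * (a + 1)) by rw [h.q_eq]; ring,
    Nat.factorization_mul (pow_ne_zero _ h.prime.ne_zero)
      (fun e => h.p_not_dvd (by rw [e]; exact dvd_zero p)),
    Finsupp.add_apply, h.prime.factorization_pow, Finsupp.single_eq_same,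
    Nat.factorization_eq_zero_of_not_dvd h.p_not_dvd, add_zero]

theorem sylow_comm [Fact p.Prime] (P : Sylow p G) : IsMulCommutative ↥(P : Subgroup G) :=
  ⟨⟨IsPGroup.commutative_of_card_eq_prime_sq (p := p) ((h.card_sylow P).trans h.q_eq.symm)⟩⟩

/-- A nontrivial element of a Sylow subgroup normalises no other one. -/
theorem eq_one_of_normalizes [Fact p.Prime] {P P' : Sylow p G} (hne : P ≠ P') {u : G}
    (hu : u ∈ (P : Subgroup G)) (hn : u ∈ Subgroup.normalizer ((P' : Subgroup G) : Set G)) : u = 1 := by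
  by_contra hu1
  have hzp : IsPGroup p (Subgroup.zpowers u) := P.2.to_le (Subgroup.zpowers_le.mpr hu)
  have hu' : u ∈ (P' : Subgroup G) := ((IsPGroup.inf_normalizer_sylow hzp P').le
    ⟨Subgroup.mem_zpowers u, hn⟩).2
  have hord : ∃ k, orderOf u = p ^ k := by
    obtain ⟨k, hk⟩ := P.2 ⟨u, hu⟩
    obtain ⟨l, -, hl⟩ := (Nat.dvd_prime_pow h.prime).mp
      (orderOf_dvd_of_pow_eq_one (congrArg Subtype.val hk : u ^ p ^ k = 1))
    exact ⟨l, hl⟩
  have key : ∀ Q : Sylow p G, u ∈ (Q : Subgroup G) →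
      (Q : Subgroup G) = Subgroup.centralizer ({u} : Set G) := fun Q hQ => by
    refine (Q.3 (h.isPGroup_centralizer hu1 hord) fun v hv => ?_).symm
    exact Subgroup.mem_centralizer_singleton_iff.mpr
      (congrArg Subtype.val ((h.sylow_comm Q).is_comm.comm ⟨v, hv⟩ ⟨u, hQ⟩))
  exact hne (Sylow.ext ((key P hu).trans (key P' hu').symm))

theorem card_sylow_and_normalizer [Fact p.Prime] (P : Sylow p G) :
    Nat.card (Sylow p G) = 2 * a + 2 ∧
      Nat.card (Subgroup.normalizer ((P : Subgroup G) : Set G)) = (2 * a + 1) * a := by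
  classical
  -- `P` acts freely on the other Sylow subgroups
  have hfixP : ∀ u : (P : Subgroup G), (u : G) • P = P := fun u =>
    Sylow.smul_eq_iff_mem_normalizer.mpr (Subgroup.le_normalizer u.2)
  letI act : MulAction (P : Subgroup G) {S : Sylow p G // S ≠ P} :=
    { smul := fun u S => ⟨(u : G) • S.1, fun e => S.2 (MulAction.injective (u : G)
        (e.trans (hfixP u).symm))⟩
      one_smul := fun S => Subtype.ext (one_smul G S.1)
      mul_smul := fun u v S => Subtype.ext (mul_smul (u : G) (v : G) S.1) }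
  have hfree : ∀ (u : (P : Subgroup G)) (S : {S : Sylow p G // S ≠ P}), u • S = S → u = 1 :=
    fun u S e => Subtype.ext (h.eq_one_of_normalizes (Ne.symm S.2) u.2
      (Sylow.smul_eq_iff_mem_normalizer.mp (congrArg Subtype.val e)))
  obtain ⟨k, hk⟩ := CfsgLib.PSL2Spec.card_dvd_of_free hfree
  haveI : Fintype (Sylow p G) := Fintype.ofFinite _
  rw [h.card_sylow P, Nat.card_eq_fintype_card, Fintype.card_subtype_compl,
    Fintype.card_subtype_eq, ← Nat.card_eq_fintype_card] at hk
  have hnpos : 0 < Nat.card (Sylow p G) := Nat.card_pos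
  set N := Subgroup.normalizer ((P : Subgroup G) : Set G) with hN
  set P₀ := (P : Subgroup G).subgroupOf N with hP₀
  have hP₀c : Nat.card P₀ = 2 * a + 1 := by
    rw [Nat.card_congr (Subgroup.subgroupOfEquivOfLe Subgroup.le_normalizer).toEquiv]
    exact h.card_sylow P
  have hNc : Nat.card N = (2 * a + 1) * P₀.index := by rw [← hP₀c, Subgroup.card_mul_index]
  have hG : Nat.card (Sylow p G) * Nat.card N = Nat.card G := by
    rw [Sylow.card_eq_index_normalizer P]
    exact N.index_mul_card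
  -- a complement in the normaliser acts freely on the nontrivial elements of `P`
  have hcop : Nat.Coprime (Nat.card P₀) P₀.index := by
    rw [hP₀c, ← h.q_eq]
    refine (h.prime.coprime_iff_not_dvd.mpr fun hd => h.p_not_dvd (hd.trans ?_)).pow_left 2
    refine ⟨Nat.card (Sylow p G), ?_⟩
    have h1 := hG
    rw [hNc, h.card] at h1
    refine Nat.eq_of_mul_eq_mul_left (show 0 < 2 * a + 1 by omega) ?_
    linarith
  obtain ⟨H, hH⟩ := Subgroup.exists_right_complement'_of_coprime hcop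
  letI act2 : MulAction H {x : (P : Subgroup G) // x ≠ 1} :=
    { smul := fun w x => ⟨⟨((w : N) : G) * (x.1 : G) * ((w : N) : G)⁻¹,
        (Subgroup.mem_normalizer_iff.mp (w : N).2 _).mp x.1.2⟩, fun e => x.2 (Subtype.ext (by
          have e' := congrArg Subtype.val e
          simpa [mul_inv_eq_one] using e'))⟩
      one_smul := fun x => Subtype.ext (Subtype.ext (by
        show (((1 : H) : N) : G) * (x.1 : G) * (((1 : H) : N) : G)⁻¹ = x.1
        simp))
      mul_smul := fun v w x => Subtype.ext (Subtype.ext (by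
        show (((v * w : H) : N) : G) * (x.1 : G) * (((v * w : H) : N) : G)⁻¹ =
          ((v : N) : G) * (((w : N) : G) * (x.1 : G) * ((w : N) : G)⁻¹) * ((v : N) : G)⁻¹
        push_cast
        group)) }
  have hfree2 : ∀ (w : H) (x : {x : (P : Subgroup G) // x ≠ 1}), w • x = x → w = 1 := by
    intro w x e
    have e' : ((w : N) : G) * (x.1 : G) * ((w : N) : G)⁻¹ = (x.1 : G) :=
      congrArg (fun y : {x : (P : Subgroup G) // x ≠ 1} => ((y.1 : G))) e
    have hx1 : (x.1 : G) ≠ 1 := fun e1 => x.2 (Subtype.ext e1)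
    obtain ⟨k, hk⟩ := P.2 x.1
    obtain ⟨l, -, hl⟩ := (Nat.dvd_prime_pow h.prime).mp
      (orderOf_dvd_of_pow_eq_one (congrArg Subtype.val hk : (x.1 : G) ^ p ^ k = 1))
    obtain ⟨m, hm⟩ := h.isPGroup_centralizer hx1 ⟨l, hl⟩ ⟨((w : N) : G),
      Subgroup.mem_centralizer_singleton_iff.mpr (mul_inv_eq_iff_eq_mul.mp e')⟩
    have hd1 : orderOf w ∣ p ^ m := by
      refine orderOf_dvd_of_pow_eq_one (Subtype.ext (Subtype.ext ?_))
      simpa using congrArg Subtype.val hm
    have hd2 : orderOf w ∣ P₀.index := hH.symm.index_eq_card ▸ orderOf_dvd_natCard w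
    have hd3 : Nat.Coprime (p ^ m) P₀.index := by
      rw [hP₀c, ← h.q_eq, Nat.coprime_pow_left_iff (by norm_num)] at hcop
      exact hcop.pow_left m
    exact orderOf_eq_one_iff.mp (Nat.eq_one_of_dvd_coprimes hd3 hd1 hd2)
  have hdvd := CfsgLib.PSL2Spec.card_dvd_of_free hfree2
  haveI : Fintype (P : Subgroup G) := Fintype.ofFinite _
  rw [← hH.symm.index_eq_card, Nat.card_eq_fintype_card (α := {x : (P : Subgroup G) // x ≠ 1}),
    Fintype.card_subtype_compl, Fintype.card_subtype_eq, ← Nat.card_eq_fintype_card,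
    h.card_sylow P] at hdvd
  set e := P₀.index
  have hn : Nat.card (Sylow p G) = 1 + (2 * a + 1) * k := by omega
  have hele : e ≤ 2 * a := Nat.le_of_dvd (by have := h.four_le; omega) hdvd
  have heq : (1 + (2 * a + 1) * k) * e = 2 * a * (a + 1) := by
    have h1 := hG
    rw [hNc, h.card, hn] at h1
    refine Nat.eq_of_mul_eq_mul_left (show 0 < 2 * a + 1 by omega) ?_
    linarith
  obtain ⟨c, hc⟩ : 2 * a + 1 ∣ 2 * e + 1 := by
    have h2 : 2 * a + 1 ∣ 2 * ((2 * a + 1) * k) * e + (2 * e + 1) := by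
      refine ⟨2 * a + 1, ?_⟩
      nlinarith
    exact (Nat.dvd_add_right ⟨2 * k * e, by ring⟩).mp h2
  have hc1 : c = 1 := by
    rcases c with _ | _ | c
    · omega
    · rfl
    · exfalso
      nlinarith
  have he : e = a := by rw [hc1] at hc; omega
  rw [he] at heq
  refine ⟨?_, by rw [hNc, he]⟩
  rw [hn]
  have ha0 : 0 < a := by have := h.four_le; omega
  have h3 : (1 + (2 * a + 1) * k) = 2 * (a + 1) := by
    refine Nat.eq_of_mul_eq_mul_right ha0 ?_
    rw [heq]; ring
  omega

end Data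

end CfsgLib.DegMultiset
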