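import Cfsg.Agent.Lib.DegMultiset.Local
import Cfsg.Agent.Lib.PSL2Spec.Main

/-!
# A group with the degree data of `PSL₂(p²)` is `PSL₂(p²)`
-/

set_option autoImplicit false
set_option linter.unusedSectionVars false
set_option linter.style.haveILetI false

open Cfsg CfsgLib.BlockReg Matrix

namespace CfsgLib.DegMultiset

universe u

variable {G : Type u} [Group G] [Finite G] {p a : ℕ}

theorem Data.nonempty_equiv (h : Data G p a) :
    ∃ (K : Type) (_ : Field K) (_ : Fintype K),
      Fintype.card K = 2 * a + 1 ∧ Nonempty (G ≃* ProjectiveSpecialLinearGroup (Fin 2) K) := by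
  classical
  haveI := Fact.mk h.prime
  let P : Sylow p G := default
  obtain ⟨hn, -⟩ := h.card_sylow_and_normalizer P
  have ha4 := h.four_le
  haveI : Fintype (Sylow p G) := Fintype.ofFinite _
  -- a Sylow subgroup is regular on the others
  have hregular : ∀ A : Sylow p G, ∀ b c : Sylow p G, b ≠ A → c ≠ A →
      ∃! u : (A : Subgroup G), (u : G) • b = c := by
    intro A b c hb hc
    have hmap : ∀ u : (A : Subgroup G), (u : G) • b ≠ A := fun u h' => hb (by
      have h1 : (u : G)⁻¹ • A = A :=
        Sylow.smul_eq_iff_mem_normalizer.mpr (Subgroup.le_normalizer (inv_mem u.2))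
      exact (inv_smul_smul (u : G) b).symm.trans ((congrArg _ h').trans h1))
    let φ : ↥(A : Subgroup G) → {S : Sylow p G // S ≠ A} := fun u => ⟨(u : G) • b, hmap u⟩
    have hinj : Function.Injective φ := by
      intro u v huv
      have h1 : (u : G) • b = (v : G) • b := congrArg Subtype.val huv
      have h2 : ((u⁻¹ * v : (A : Subgroup G)) : G) • b = b := by
        push_cast
        rw [mul_smul, ← h1, inv_smul_smul]
      have h3 := h.eq_one_of_normalizes (Ne.symm hb) (u⁻¹ * v).2
        (Sylow.smul_eq_iff_mem_normalizer.mp h2)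
      exact inv_mul_eq_one.mp (Subtype.ext h3)
    have hbij : Function.Bijective φ := (Nat.bijective_iff_injective_and_card φ).mpr ⟨hinj, by
      rw [h.card_sylow A, Nat.card_eq_fintype_card, Fintype.card_subtype_compl,
        Fintype.card_subtype_eq, ← Nat.card_eq_fintype_card, hn]
      rfl⟩
    obtain ⟨u, hu⟩ := hbij.2 ⟨c, hc⟩
    exact ⟨u, congrArg Subtype.val hu, fun v hv => hbij.1 (Subtype.ext (hv.trans (congrArg Subtype.val hu).symm))⟩
  have hstab : ∀ (A : Sylow p G) (g : G), g ∈ (A : Subgroup G) → g • A = A := fun A g hg =>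
    Sylow.smul_eq_iff_mem_normalizer.mpr (Subgroup.le_normalizer hg)
  have hthree : ∀ g : G, ∀ a b c : Sylow p G, a ≠ b → b ≠ c → a ≠ c →
      g • a = a → g • b = b → g • c = c → g = 1 := by
    intro g a b c hab hbc hac ha hb hc
    obtain ⟨u, hu, huniq⟩ := hregular a b c (Ne.symm hab) (Ne.symm hac)
    have hu1 : (u : G) ≠ 1 := fun h' => hbc (by rw [← hu, h', one_smul])
    have hgu : g * u * g⁻¹ ∈ (a : Subgroup G) :=
      (Subgroup.mem_normalizer_iff.mp (Sylow.smul_eq_iff_mem_normalizer.mp ha) u).mp u.2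
    have h1 : ((⟨_, hgu⟩ : (a : Subgroup G)) : G) • b = c := by
      show (g * u * g⁻¹) • b = c
      rw [mul_smul, mul_smul, show g⁻¹ • b = b from by rw [inv_smul_eq_iff, hb], hu, hc]
    have h2 : g * u * g⁻¹ = u := congrArg Subtype.val (huniq _ h1)
    obtain ⟨k, hk⟩ := a.2 u
    obtain ⟨l, -, hl⟩ := (Nat.dvd_prime_pow h.prime).mp
      (orderOf_dvd_of_pow_eq_one (congrArg Subtype.val hk : (u : G) ^ p ^ k = 1))
    have hgc : g ∈ Subgroup.centralizer ({(u : G)} : Set G) :=
      Subgroup.mem_centralizer_singleton_iff.mpr (mul_inv_eq_iff_eq_mul.mp h2)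
    have hgp : IsPGroup p (Subgroup.zpowers g) :=
      (h.isPGroup_centralizer hu1 ⟨l, hl⟩).to_le (Subgroup.zpowers_le.mpr hgc)
    have h3 : g ∈ (a : Subgroup G) := ((IsPGroup.inf_normalizer_sylow hgp a).le
      ⟨Subgroup.mem_zpowers g, Sylow.smul_eq_iff_mem_normalizer.mp ha⟩).2
    exact h.eq_one_of_normalizes hab h3 (Sylow.smul_eq_iff_mem_normalizer.mp hb)
  have htwo : MulAction.IsMultiplyPretransitive G (Sylow p G) 2 := by
    rw [MulAction.is_two_pretransitive_iff]
    intro a b c d hab hcd
    obtain ⟨g, hg⟩ := MulAction.exists_smul_eq G a c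
    have hgb : g • b ≠ c := fun h' => hab (MulAction.injective g (hg.trans h'.symm))
    obtain ⟨u, hu, -⟩ := hregular c (g • b) d hgb (Ne.symm hcd)
    exact ⟨(u : G) * g, by rw [mul_smul, hg, hstab c u u.2], by rw [mul_smul, hu]⟩
  obtain ⟨b, hb⟩ : ∃ b : Sylow p G, b ≠ P := by
    by_contra! h'
    have : Nat.card (Sylow p G) ≤ 1 :=
      Finite.card_le_one_iff_subsingleton.mpr ⟨fun x y => (h' x).trans (h' y).symm⟩
    omega
  have htwofix : ∃ g : G, g ≠ 1 ∧ ∃ a b : Sylow p G, a ≠ b ∧ g • a = a ∧ g • b = b := by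
    by_contra! hno
    -- otherwise the stabiliser of `P` injects into the other Sylow subgroups
    let φ : Subgroup.normalizer ((P : Subgroup G) : Set G) → {S : Sylow p G // S ≠ P} := fun g =>
      ⟨(g : G) • b, fun h' => hb (MulAction.injective (g : G)
        (h'.trans (Sylow.smul_eq_iff_mem_normalizer.mpr g.2).symm))⟩
    have hinj : Function.Injective φ := by
      intro x y hxy
      by_contra hne
      have h1 : (x : G) • b = (y : G) • b := congrArg Subtype.val hxy
      refine hno ((y : G)⁻¹ * x) (fun h' => hne (Subtype.ext (inv_mul_eq_one.mp h').symm)) P b hb.symm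
        ?_ (by rw [mul_smul, h1, inv_smul_smul])
      exact Sylow.smul_eq_iff_mem_normalizer.mpr (mul_mem (inv_mem y.2) x.2)
    have h1 := Nat.card_le_card_of_injective φ hinj
    rw [Nat.card_eq_fintype_card (α := {S : Sylow p G // S ≠ P}), Fintype.card_subtype_compl,
      Fintype.card_subtype_eq, ← Nat.card_eq_fintype_card, hn] at h1
    have h2 := (h.card_sylow_and_normalizer P).2
    have h3 : (2 * a + 1) * 4 ≤ (2 * a + 1) * a := Nat.mul_le_mul_left _ h.four_le
    omega
  have hreg' : ∀ N : Subgroup G, N.Normal → MulAction.IsPretransitive N (Sylow p G) →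
      ∃ a : Sylow p G, MulAction.stabilizer N a ≠ ⊥ := by
    intro N hN hNt
    by_contra! hno
    have hNcard : Nat.card N = 2 * a + 2 := by
      have h1 := (MulAction.stabilizer N P).index_mul_card
      rw [hno P, Subgroup.card_bot, mul_one, Subgroup.index_bot] at h1
      have h2 := MulAction.index_stabilizer_of_transitive N P
      rw [hno P, Subgroup.index_bot] at h2
      rw [h2, hn]
    have hidx : N.index = (2 * a + 1) * a := by
      have h1 := N.card_mul_index
      rw [hNcard, h.card] at h1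
      refine Nat.eq_of_mul_eq_mul_left (show 0 < 2 * a + 2 by omega) ?_
      linarith
    have hNtop : N ≠ ⊤ := fun e => by
      rw [e, Subgroup.index_top] at hidx
      nlinarith
    obtain ⟨χ, hne, hd1, hd2, -⟩ := exists_inflated N hNtop
    rw [hidx] at hd1 hd2
    rcases h.degrees χ with e | e | e | e | e
    · exact hne (h.linear χ e)
    · rw [e] at hd2; nlinarith
    · rw [e] at hd1
      have ha' : Nat.Coprime (a + 1) a :=
        (Nat.coprime_self_add_right.mpr (Nat.coprime_one_right a)).symm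
      have := (Nat.Coprime.mul_right Data.coprime_succ_q ha').eq_one_of_dvd hd1
      omega
    · rw [e] at hd1
      have ha' : Nat.Coprime (a + 1) a :=
        (Nat.coprime_self_add_right.mpr (Nat.coprime_one_right a)).symm
      have := (Nat.Coprime.mul_right Data.coprime_succ_q ha').eq_one_of_dvd
        ((dvd_mul_left (a + 1) 2).trans (by rw [show 2 * (a + 1) = 2 * a + 2 by ring]; exact hd1))
      omega
    · rw [e] at hd2; nlinarith
  have hfaith : FaithfulSMul G (Sylow p G) := by
    refine ⟨fun {x y} hxy => ?_⟩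
    obtain ⟨a, b, c, hab, hac, hbc⟩ := Fintype.two_lt_card_iff.mp
      (show 2 < Fintype.card (Sylow p G) by rw [← Nat.card_eq_fintype_card, hn]; omega)
    have key : ∀ s : Sylow p G, (y⁻¹ * x) • s = s := fun s => by rw [mul_smul, hxy, inv_smul_smul]
    exact (inv_mul_eq_one.mp (hthree _ a b c hab hbc hac (key a) (key b) (key c))).symm
  have hZ : Cfsg.IsZassenhausGroup G (Sylow p G) := ⟨hfaith, htwo, hthree, htwofix, hreg'⟩
  have hle : (P : Subgroup G) ≤ MulAction.stabilizer G P := fun u hu => hstab P u hu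
  have hnorm : ((P : Subgroup G).subgroupOf (MulAction.stabilizer G P)).Normal := by
    refine ⟨fun x hx g => ?_⟩
    rw [Subgroup.mem_subgroupOf] at hx ⊢
    exact (Subgroup.mem_normalizer_iff.mp (Sylow.smul_eq_iff_mem_normalizer.mp g.2) x).mp hx
  rcases Cfsg.Agent.S0731.result hZ P (P : Subgroup G) hle hnorm
    (h.sylow_comm P) (fun y z hy hz => hregular P y z hy hz) with
    ⟨h3t, h3s⟩ | ⟨K, iK, fK, hK2, ⟨φ⟩⟩
  · exfalso
    haveI := h3t
    obtain ⟨x, y, z, hxy, hxz, hyz⟩ := Fintype.two_lt_card_iff.mp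
      (show 2 < Fintype.card (Sylow p G) by rw [← Nat.card_eq_fintype_card, hn]; omega)
    let t : Fin 3 ↪ Sylow p G := ⟨![x, y, z], by
      intro i j hij
      fin_cases i <;> fin_cases j <;> simp_all [hxy, hxz, hyz, Ne.symm hxy, Ne.symm hxz, Ne.symm hyz]⟩
    have h1 := MulAction.index_stabilizer_of_transitive G t
    rw [h3s t, Subgroup.index_bot, h.card, Nat.card_eq_fintype_card, Fintype.card_embedding_eq,
      Fintype.card_fin, ← Nat.card_eq_fintype_card, hn] at h1
    simp only [Nat.descFactorial, Nat.sub_zero] at h1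
    simp only [show 2 * a + 2 - 1 = 2 * a + 1 from rfl, show 2 * a + 2 - 2 = 2 * a from rfl] at h1
    have h5 : 0 < (2 * a + 1) * a * (a + 1) := by
      have : 0 < a := by omega
      positivity
    nlinarith [h5]
  · have hodd : ¬ 2 ∣ Fintype.card K := fun h' => hK2 (by
      obtain ⟨n, hn, hKc⟩ := FiniteField.card K (ringChar K)
      rw [hKc] at h'
      exact ((Nat.prime_dvd_prime_iff_eq Nat.prime_two hn).mp (Nat.prime_two.dvd_of_dvd_pow h')).symm)
    refine ⟨K, iK, fK, ?_, ⟨φ⟩⟩
    have h1 := CfsgLib.PSL2Spec.card_psl_odd hodd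
    rw [← Nat.card_congr φ.toEquiv, h.card] at h1
    have h2 : (2 * a + 1) * ((2 * a + 1) ^ 2 - 1) = Fintype.card K * (Fintype.card K ^ 2 - 1) := by
      rw [← h1, show (2 * a + 1) ^ 2 = 4 * (a * (a + 1)) + 1 by ring, Nat.add_sub_cancel]; ring
    by_contra hne
    rcases Nat.lt_or_gt_of_ne hne with hlt | hlt
    · exact absurd h2 (ne_of_gt (Nat.mul_lt_mul_of_lt_of_le hlt
        (Nat.sub_le_sub_right (Nat.pow_le_pow_left hlt.le 2) 1) (by
          have : 5 ^ 2 ≤ (2 * a + 1) ^ 2 := Nat.pow_le_pow_left (by omega) 2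
          omega)))
    · exact absurd h2 (ne_of_lt (Nat.mul_lt_mul_of_lt_of_le hlt
        (Nat.sub_le_sub_right (Nat.pow_le_pow_left hlt.le 2) 1) (by
          have : 5 ^ 2 ≤ Fintype.card K ^ 2 := Nat.pow_le_pow_left (by omega) 2
          omega)))

end CfsgLib.DegMultiset
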