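import Cfsg.Agent.Lib.DegMultiset.Basic
import Cfsg.Agent.Lib.SL2Deg.Degrees
import Cfsg.Agent.Lib.SL2Deg.Counts
import Cfsg.Agent.Lib.SL2Cusp.DegreeCount

/-!
# Degrees of `PSL₂(q)`, `q ≡ 1 (mod 4)`: the degree `(q - 1) / 2` does not occur
-/

set_option autoImplicit false
set_option linter.unusedSectionVars false
set_option linter.style.haveILetI false

open Cfsg CfsgLib.BlockReg

namespace CfsgLib.DegMultiset

universe u

variable {F : Type u} [Field F] [Fintype F]

local notation "SL2" => Matrix.SpecialLinearGroup (Fin 2) F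

/-- The two characters of degree `(q - 1) / 2` of `SL₂(q)` are faithful at `-1`. -/
theorem neg_one_of_degree_half {a : ℕ} (hq : Fintype.card F = 2 * a + 1) (ha : 2 ∣ a)
    (ha4 : 4 ≤ a) (η : IrrCharacter SL2) (hη : charDegree (η : SL2 → ℂ) = a) :
    (η : SL2 → ℂ) (-1) ≠ (η : SL2 → ℂ) 1 := by
  classical
  have hodd : Odd (Fintype.card F) := ⟨a, hq⟩
  have hcnt := (CfsgLib.SL2Deg.odd_counts hodd (by omega)).1
  set z : SL2 := -1 with hzdef
  have hzc : z ∈ Subgroup.center SL2 := CfsgLib.SL2Deg.neg_one_mem_center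
  have hz2 : z * z = 1 := by simp [hzdef]
  have hzcomm : z ∈ commutator SL2 := by
    obtain ⟨x, y, hxy⟩ := CfsgLib.SL2Deg.exists_anticomm (F := F) (by omega)
    rw [hzdef, ← hxy, commutator_def]
    exact Subgroup.commutator_mem_commutator (Subgroup.mem_top x) (Subgroup.mem_top y)
  have hz1 : z ≠ 1 := by
    intro h
    have h' := congrArg (fun M : SL2 => (M : Matrix (Fin 2) (Fin 2) F) 0 0) h
    simp [hzdef] at h'
    exact CfsgLib.SL2Deg.two_ne_zero_of_odd hodd (by linear_combination -h')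
  -- each central value is a sign
  have hsign : ∀ χ : IrrCharacter SL2,
      (χ : SL2 → ℂ) z = (χ : SL2 → ℂ) 1 ∨ (χ : SL2 → ℂ) z = -(χ : SL2 → ℂ) 1 := by
    intro χ
    have h := CfsgLib.CharOver.apply_mul_central χ.2 hzc z
    rw [hz2] at h
    exact mul_self_eq_mul_self_iff.1 h.symm
  let sg : IrrCharacter SL2 → ℤ := fun χ => if (χ : SL2 → ℂ) z = (χ : SL2 → ℂ) 1 then 1 else -1
  have hsum : ∑ χ : IrrCharacter SL2, (charDegree (χ : SL2 → ℂ) : ℤ) ^ 2 * sg χ = 0 := by
    have h := CfsgLib.Char.sum_apply_one_mul z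
    rw [if_neg hz1] at h
    refine (Int.cast_injective (α := ℂ)) ?_
    push_cast
    rw [← h]
    refine Finset.sum_congr rfl fun χ _ => ?_
    rcases hsign χ with e | e
    · simp [sg, e, deg_cast χ, sq]
    · have hne : ¬ (χ : SL2 → ℂ) z = (χ : SL2 → ℂ) 1 := fun e' => by
        rw [e'] at e
        exact CfsgLib.Char.IsIrrCharacter.apply_one_ne_zero χ.2 (by linear_combination e / 2)
      simp only [sg, hne, if_false]
      rw [e, deg_cast χ]
      push_cast
      ring
  -- the six degrees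
  have h4 : 4 ≤ Fintype.card F := by omega
  obtain ⟨St, -, -, hall⟩ := CfsgLib.SL2Deg.classification (F := F) h4
  set D : Finset ℕ := {1, 2 * a + 1, a + 1, a, 2 * a + 2, 2 * a} with hD
  have hmaps : ∀ χ ∈ (Finset.univ : Finset (IrrCharacter SL2)), charDegree (χ : SL2 → ℂ) ∈ D := by
    intro χ _
    obtain ⟨d, hd, hd1, -⟩ := hall χ
    rw [CfsgLib.SL2Deg.charDegree_eq hd1, hD]
    simp only [Finset.mem_insert, Finset.mem_singleton]
    rcases hd with rfl | rfl | rfl | rfl | ⟨-, rfl | rfl⟩ <;> omega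
  set fib : ℕ → Finset (IrrCharacter SL2) := fun d =>
    Finset.univ.filter fun χ => charDegree (χ : SL2 → ℂ) = d with hfib
  have hcard : ∀ d : ℕ, (fib d).card =
      (if d = 1 then 1 else 0) + (if d = Fintype.card F then 1 else 0) +
      (if d = (Fintype.card F + 1) / 2 then 2 else 0) + (if d = (Fintype.card F - 1) / 2 then 2 else 0) +
      (if d = Fintype.card F + 1 then (Fintype.card F - 3) / 2 else 0) +
      (if d = Fintype.card F - 1 then (Fintype.card F - 1) / 2 else 0) := by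
    intro d
    rw [← hcnt d, Nat.card_eq_fintype_card, Fintype.card_subtype]
    refine congrArg Finset.card (Finset.filter_congr fun χ _ => ?_)
    rw [← deg_cast χ, Nat.cast_inj]
  set neg : ℕ → ℕ := fun d => ((fib d).filter fun (χ : IrrCharacter SL2) => (χ : SL2 → ℂ) z ≠ (χ : SL2 → ℂ) 1).card
    with hneg
  have hS : ∀ d : ℕ, (∑ χ ∈ fib d, sg χ) = ((fib d).card : ℤ) - 2 * (neg d : ℤ) ∧
      neg d ≤ (fib d).card := by
    intro d
    refine ⟨?_, show ((fib d).filter fun (χ : IrrCharacter SL2) => (χ : SL2 → ℂ) z ≠ (χ : SL2 → ℂ) 1).card ≤ _ from Finset.card_filter_le _ _⟩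
    have h1 : ∀ χ ∈ fib d, sg χ = 1 - 2 * (if (χ : SL2 → ℂ) z ≠ (χ : SL2 → ℂ) 1 then (1 : ℤ) else 0) := by
      intro χ _
      by_cases e : (χ : SL2 → ℂ) z = (χ : SL2 → ℂ) 1 <;> simp [sg, e]
    rw [Finset.sum_congr rfl h1, Finset.sum_sub_distrib, Finset.sum_const, ← Finset.mul_sum,
      Finset.sum_boole]
    simp [hneg]
  have hnoneg : ∀ d : ℕ, (d = 1 ∨ d = 2 * a + 1) → neg d = 0 := by
    intro d hd
    show ((fib d).filter fun (χ : IrrCharacter SL2) => (χ : SL2 → ℂ) z ≠ (χ : SL2 → ℂ) 1).card = 0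
    rw [Finset.card_eq_zero, Finset.filter_eq_empty_iff]
    intro χ hχ
    refine not_not.2 ?_
    have hχd : charDegree (χ : SL2 → ℂ) = d := (Finset.mem_filter.1 hχ).2
    exact CfsgLib.SL2Cusp.apply_central_of_odd χ hzc hz2 hzcomm (by omega)
  rw [← Finset.sum_fiberwise_of_maps_to hmaps] at hsum
  have hterm : ∀ d ∈ D, ∑ χ ∈ Finset.univ.filter (fun χ => charDegree ((χ : IrrCharacter SL2) : SL2 → ℂ) = d),
      (charDegree (χ : SL2 → ℂ) : ℤ) ^ 2 * sg χ =
        (d : ℤ) ^ 2 * (((fib d).card : ℤ) - 2 * (neg d : ℤ)) := by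
    intro d _
    rw [← (hS d).1, Finset.mul_sum]
    exact Finset.sum_congr rfl fun χ hχ => by rw [(Finset.mem_filter.1 hχ).2]
  rw [Finset.sum_congr rfl hterm, hD] at hsum
  rw [Finset.sum_insert (by simp only [Finset.mem_insert, Finset.mem_singleton]; omega),
    Finset.sum_insert (by simp only [Finset.mem_insert, Finset.mem_singleton]; omega),
    Finset.sum_insert (by simp only [Finset.mem_insert, Finset.mem_singleton]; omega),
    Finset.sum_insert (by simp only [Finset.mem_insert, Finset.mem_singleton]; omega),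
    Finset.sum_insert (by simp only [Finset.mem_singleton]; omega),
    Finset.sum_singleton, hnoneg 1 (Or.inl rfl), hnoneg (2 * a + 1) (Or.inr rfl)] at hsum
  have c1 : (fib 1).card = 1 := by rw [hcard]; split_ifs <;> omega
  have cq : (fib (2 * a + 1)).card = 1 := by rw [hcard]; split_ifs <;> omega
  have cb : (fib (a + 1)).card = 2 := by rw [hcard]; split_ifs <;> omega
  have ca : (fib a).card = 2 := by rw [hcard]; split_ifs <;> omega
  have cp : (fib (2 * a + 2)).card = a - 1 := by rw [hcard]; split_ifs <;> omega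
  have cm : (fib (2 * a)).card = a := by rw [hcard]; split_ifs <;> omega
  rw [c1, cq, cb, ca, cp, cm] at hsum
  have b1 := (hS a).2
  have b2 := (hS (2 * a)).2
  rw [ca] at b1
  rw [cm] at b2
  have hT : ((a : ℤ) + 1) ^ 2 ∣ (4 - 2 * (neg a : ℤ) + 4 * a - 8 * (neg (2 * a) : ℤ)) := by
    have hcop : IsCoprime (((a : ℤ) + 1) ^ 2) ((a : ℤ) ^ 2) := IsCoprime.pow ⟨1, -1, by ring⟩
    refine hcop.dvd_of_dvd_mul_left ⟨-(4 - 2 * (neg (a + 1) : ℤ) +
      4 * ((a - 1 : ℕ) : ℤ) - 8 * (neg (2 * a + 2) : ℤ)), ?_⟩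
    push_cast at hsum ⊢
    linear_combination hsum
  have hT0 : (4 - 2 * (neg a : ℤ) + 4 * a - 8 * (neg (2 * a) : ℤ)) = 0 := by
    refine Int.eq_zero_of_abs_lt_dvd hT (abs_lt.2 ⟨?_, ?_⟩)
    · nlinarith
    · nlinarith
  have hn2 : neg a = (fib a).card := by
    rw [ca]; omega
  intro hcon
  have hmem : η ∈ fib a := Finset.mem_filter.2 ⟨Finset.mem_univ _, hη⟩
  have hn2' : ((fib a).filter fun (χ : IrrCharacter SL2) => (χ : SL2 → ℂ) z ≠ (χ : SL2 → ℂ) 1).card = (fib a).card := hn2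
  have := (Finset.card_filter_eq_iff.1 hn2') η hmem
  exact this hcon

/-- The degrees of `PSL₂(q)` for `q = 2 a + 1`, `a` even. -/
theorem psl_degrees {a : ℕ} (hq : Fintype.card F = 2 * a + 1) (ha : 2 ∣ a) (ha4 : 4 ≤ a)
    (χ : IrrCharacter (Matrix.ProjectiveSpecialLinearGroup (Fin 2) F)) :
    let d := charDegree (χ : Matrix.ProjectiveSpecialLinearGroup (Fin 2) F → ℂ)
    (d = 1 ∨ d = 2 * a + 1 ∨ d = a + 1 ∨ d = 2 * a + 2 ∨ d = 2 * a) ∧
      (d = 1 → χ = CfsgLib.Char.principalIrr) := by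
  classical
  intro d
  have h4 : 4 ≤ Fintype.card F := by omega
  obtain ⟨St, -, -, hall⟩ := CfsgLib.SL2Deg.classification (F := F) h4
  obtain ⟨η, hη⟩ := CfsgLib.SL2Deg.exists_inflate χ
  obtain ⟨e, he, he1, -⟩ := hall η
  have hd : (χ : Matrix.ProjectiveSpecialLinearGroup (Fin 2) F → ℂ) 1 = (e : ℂ) := by
    rw [← he1, hη, QuotientGroup.mk_one]
  have hde : d = e := CfsgLib.SL2Deg.charDegree_eq hd
  refine ⟨?_, fun h1 => Subtype.ext (funext fun x => ?_)⟩
  · have hne : e ≠ a := fun h => neg_one_of_degree_half hq ha ha4 η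
      ((CfsgLib.SL2Deg.charDegree_eq he1).trans h) (by
        rw [hη, hη, (QuotientGroup.eq_one_iff (-1 : SL2)).2 CfsgLib.SL2Deg.neg_one_mem_center,
          QuotientGroup.mk_one])
    rw [hde]
    rcases he with rfl | rfl | rfl | rfl | ⟨-, rfl | rfl⟩ <;> omega
  · obtain ⟨g, rfl⟩ := QuotientGroup.mk_surjective x
    rw [← hη g, CfsgLib.SL2Deg.eq_one_of_degree_one h4 η.2 (by rw [he1, ← hde, h1, Nat.cast_one]),
      CfsgLib.Char.principalIrr_apply]

end CfsgLib.DegMultiset
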